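import Mathlib

universe u v w z

namespace Groth.Agent.DispLift.Basic

variable {p : ℕ} [Fact p.Prime] {S : Type u} [CommRing S]

theorem aeval_mem {σ : Type*} (x : σ → S) (I : Ideal S) (hx : ∀ i, x i ∈ I)
    (q : MvPolynomial σ ℤ) (hq : MvPolynomial.constantCoeff q = 0) :
    MvPolynomial.aeval x q ∈ I := by
  have key : ∀ r : MvPolynomial σ ℤ, MvPolynomial.aeval x r -
      algebraMap ℤ S (MvPolynomial.constantCoeff r) ∈ I := by
    intro r
    rw [← Ideal.Quotient.eq]
    induction r using MvPolynomial.induction_on with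
    | C a => simp
    | add p q hp hq => simp only [map_add, hp, hq]
    | mul_X p i hp =>
      simp [Ideal.Quotient.eq_zero_iff_mem.mpr (hx i)]
  simpa [hq] using key q

theorem coeff_frobenius' (x : WittVector p S) (n : ℕ) :
    ∃ q : MvPolynomial ℕ ℤ, MvPolynomial.constantCoeff q = 0 ∧
      (WittVector.frobenius x).coeff n = x.coeff n ^ p + (p : S) * MvPolynomial.aeval x.coeff q := by
  have h : ∀ {T : Type} [CommRing T] (y : WittVector p T),
      (WittVector.frobenius y).coeff n =
        y.coeff n ^ p + (p : T) * MvPolynomial.aeval y.coeff (WittVector.frobeniusPolyAux p n) := by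
    intro T _ y
    simp [WittVector.coeff_frobenius, WittVector.frobeniusPoly]
  refine ⟨WittVector.frobeniusPolyAux p n, ?_, by
    simp [WittVector.coeff_frobenius, WittVector.frobeniusPoly]⟩
  have h0 := h (0 : WittVector p ℤ)
  have e : ((0 : WittVector p ℤ).coeff) = (0 : ℕ → ℤ) := funext fun k => WittVector.zero_coeff p ℤ k
  rw [map_zero, e, MvPolynomial.aeval_zero] at h0
  have hp := (Fact.out : p.Prime)
  simpa [hp.ne_zero, WittVector.zero_coeff] using h0.symm

theorem frobenius_mem_pow_succ (x : WittVector p S) (j : ℕ)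
    (hx : ∀ n, x.coeff n ∈ Ideal.span {(p : S)} ^ (j + 1)) (n : ℕ) :
    (WittVector.frobenius x).coeff n ∈ Ideal.span {(p : S)} ^ (j + 1 + 1) := by
  obtain ⟨q, hq, e⟩ := coeff_frobenius' x n
  rw [e]
  refine Ideal.add_mem _ ?_ ?_
  · have h2 := Ideal.pow_mem_pow (hx n) 2
    rw [← pow_mul] at h2
    have h3 : x.coeff n ^ 2 ∈ Ideal.span {(p : S)} ^ (j + 1 + 1) :=
      Ideal.pow_le_pow_right (by omega) h2
    obtain ⟨c, hc⟩ := Nat.exists_eq_add_of_le (Fact.out : p.Prime).two_le
    rw [show x.coeff n ^ p = x.coeff n ^ (2 + c) by rw [← hc], pow_add (x.coeff n)]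
    exact Ideal.mul_mem_right _ _ h3
  · rw [pow_succ' _ (j + 1)]
    exact Ideal.mul_mem_mul (Ideal.mem_span_singleton_self _) (aeval_mem _ _ hx q hq)

theorem frobenius_iterate_sub_pow (x : WittVector p S) (m : ℕ) (n : ℕ) :
    ((⇑(WittVector.frobenius : WittVector p S →+* WittVector p S))^[m] x).coeff n - x.coeff n ^ p ^ m
      ∈ Ideal.span {(p : S)} := by
  induction m with
  | zero => simp
  | succ m ih =>
    rw [Function.iterate_succ_apply']
    obtain ⟨q, -, e⟩ := coeff_frobenius' ((⇑(WittVector.frobenius : WittVector p S →+* WittVector p S))^[m] x) n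
    rw [e, pow_succ, pow_mul]
    rw [← Ideal.Quotient.eq] at ih ⊢
    rw [map_add, map_mul, map_pow, ih, Ideal.Quotient.eq_zero_iff_mem.mpr
      (Ideal.mem_span_singleton_self (p : S))]
    simp

theorem exists_iterate_eq_zero (hp : IsNilpotent (p : S)) (N : ℕ) :
    ∃ M : ℕ, ∀ x : WittVector p S, (∀ n, x.coeff n ^ N = 0) →
      (⇑(WittVector.frobenius : WittVector p S →+* WittVector p S))^[M] x = 0 := by
  obtain ⟨e, he⟩ := hp
  refine ⟨e + N, fun x hx => ?_⟩
  have h : ∀ j n, ((⇑(WittVector.frobenius : WittVector p S →+* WittVector p S))^[j + N] x).coeff n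
      ∈ Ideal.span {(p : S)} ^ (j + 1) := by
    intro j
    induction j with
    | zero =>
      intro n
      have := frobenius_iterate_sub_pow x N n
      rw [show x.coeff n ^ p ^ N = 0 from pow_eq_zero_of_le
        (Nat.lt_pow_self (Fact.out : p.Prime).one_lt).le (hx n), sub_zero] at this
      simpa using this
    | succ j ih =>
      intro n
      rw [show j + 1 + N = (j + N) + 1 by omega, Function.iterate_succ_apply']
      exact frobenius_mem_pow_succ _ j ih n
  ext n
  have := h e n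
  rw [Ideal.span_singleton_pow, pow_succ, he, zero_mul, Ideal.span_singleton_eq_bot.mpr rfl] at this
  simpa using this

theorem coeff_pow_eq_zero {R : Type u} [CommRing R] (φ : S →+* R) (N : ℕ)
    (hN : ∀ a : S, φ a = 0 → a ^ N = 0) {x : WittVector p S}
    (hx : x ∈ RingHom.ker (WittVector.map (p := p) φ)) (n : ℕ) : x.coeff n ^ N = 0 :=
  hN _ (by simpa [WittVector.map_coeff] using congrArg (fun y => y.coeff n) (RingHom.mem_ker.mp hx))

theorem ker_stable {R : Type u} [CommRing R] (φ : S →+* R) {x : WittVector p S}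
    (hx : x ∈ RingHom.ker (WittVector.map (p := p) φ)) :
    WittVector.frobenius x ∈ RingHom.ker (WittVector.map (p := p) φ) := by
  rw [RingHom.mem_ker]
  ext n
  rw [WittVector.map_coeff, WittVector.zero_coeff, WittVector.coeff_frobenius]
  have h0 : (WittVector.map (p := p) φ x).coeff = fun n => φ (x.coeff n) :=
    funext fun n => WittVector.map_coeff φ x n
  have h := congrArg (fun y => (WittVector.frobenius y).coeff n) (RingHom.mem_ker.mp hx)
  simp only [map_zero, WittVector.zero_coeff, WittVector.coeff_frobenius, h0] at h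
  rw [← h, MvPolynomial.aeval_def, MvPolynomial.aeval_def, MvPolynomial.eval₂_comp_left]
  congr 1
  exact RingHom.ext_int _ _

section lift

variable {W : Type*} [CommRing W] (σ : W →+* W) {P₁ : Type v} [AddCommGroup P₁] [Module W P₁]
  {P₂ : Type w} [AddCommGroup P₂] [Module W P₂]

theorem exists_fixed (F₁ : P₁ →ₛₗ[σ] P₁) (F₂ : P₂ →ₛₗ[σ] P₂) {ι : Type z}
    (b : Module.Basis ι W P₁)
    (hF₁ : LinearIndependent W (fun i => F₁ (b i)) ∧
      Submodule.span W (Set.range fun i => F₁ (b i)) = ⊤)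
    (𝔠 : Ideal W) (h𝔠F : ∀ x ∈ 𝔠, σ x ∈ 𝔠) (M : ℕ) (hM : ∀ x ∈ 𝔠, (⇑σ)^[M] x = 0)
    (α₀ : P₁ →ₗ[W] P₂) (hα₀ : ∀ x, F₂ (α₀ x) - α₀ (F₁ x) ∈ 𝔠 • (⊤ : Submodule W P₂)) :
    ∃! α : P₁ →ₗ[W] P₂, (∀ x, α x - α₀ x ∈ 𝔠 • (⊤ : Submodule W P₂)) ∧
      ∀ x, F₂ (α x) = α (F₁ x) := by
  let b' := Module.Basis.mk hF₁.1 hF₁.2.ge
  let G : (P₁ →ₗ[W] P₂) → (P₁ →ₗ[W] P₂) := fun α => b'.constr ℕ fun i => F₂ (α (b i))
  have hG : ∀ α i, G α (F₁ (b i)) = F₂ (α (b i)) := by
    intro α i
    have : b' i = F₁ (b i) := Module.Basis.mk_apply _ _ i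
    rw [← this]
    exact b'.constr_basis ℕ _ i
  have hG' : ∀ α x, G α (F₁ x) = F₂ (α x) := by
    intro α x
    have : (G α).comp F₁ = F₂.comp α := b.ext fun i => hG α i
    exact LinearMap.congr_fun this x
  have hsub : ∀ α β, G (α - β) = G α - G β := by
    intro α β
    refine b'.ext fun i => ?_
    simp [G]
  -- values in an ideal
  have hval : ∀ (I : Ideal W) (α : P₁ →ₗ[W] P₂), (∀ x, α x ∈ I • (⊤ : Submodule W P₂)) →
      ∀ x, G α x ∈ I.map σ • (⊤ : Submodule W P₂) := by
    intro I α h x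
    have hF : ∀ y ∈ I • (⊤ : Submodule W P₂), F₂ y ∈ I.map σ • (⊤ : Submodule W P₂) := by
      intro y hy
      refine Submodule.smul_induction_on hy (fun r hr n _ => ?_) (fun a c ha hc => ?_)
      · rw [map_smulₛₗ]
        exact Submodule.smul_mem_smul (Ideal.mem_map_of_mem σ hr) Submodule.mem_top
      · rw [map_add]; exact add_mem ha hc
    have : x ∈ Submodule.span W (Set.range fun i => F₁ (b i)) := hF₁.2 ▸ Submodule.mem_top
    induction this using Submodule.span_induction with
    | mem x hx =>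
      obtain ⟨i, rfl⟩ := hx
      simp only [hG]
      exact hF _ (h _)
    | zero => simp
    | add a c _ _ ha hc => rw [map_add]; exact add_mem ha hc
    | smul r a _ ha => rw [map_smul]; exact Submodule.smul_mem _ r ha
  have hmap : 𝔠.map σ ≤ 𝔠 := Ideal.map_le_iff_le_comap.mpr h𝔠F
  -- G^[k] of a 𝔠-small map
  have hsmall : ∀ k (D : P₁ →ₗ[W] P₂), (∀ x, D x ∈ 𝔠 • (⊤ : Submodule W P₂)) →
      ∀ x, G^[k] D x ∈ Ideal.span ((⇑σ)^[k] '' (𝔠 : Set W)) • (⊤ : Submodule W P₂) := by
    intro k
    induction k with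
    | zero => intro D hD; simpa using hD
    | succ k ih =>
      intro D hD x
      have := hval _ _ (ih D hD) x
      rw [Ideal.map_span, ← Set.image_comp, ← Function.iterate_succ'] at this
      rw [Function.iterate_succ_apply']
      exact this
  have hzero : ∀ D : P₁ →ₗ[W] P₂, (∀ x, D x ∈ 𝔠 • (⊤ : Submodule W P₂)) → G^[M] D = 0 := by
    intro D hD
    ext x
    have := hsmall M D hD x
    have hbot : Ideal.span ((⇑σ)^[M] '' (𝔠 : Set W)) = ⊥ := by
      rw [Ideal.span_eq_bot]
      rintro _ ⟨y, hy, rfl⟩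
      exact hM y hy
    rw [hbot, Submodule.bot_smul, Submodule.mem_bot] at this
    simpa using this
  have hsubk : ∀ k α β, G^[k] (α - β) = G^[k] α - G^[k] β := by
    intro k
    induction k with
    | zero => simp
    | succ k ih => intro α β; simp only [Function.iterate_succ_apply', ih, hsub]
  have hd : ∀ x, (G α₀ - α₀) x ∈ 𝔠 • (⊤ : Submodule W P₂) := by
    intro x
    have : x ∈ Submodule.span W (Set.range fun i => F₁ (b i)) := hF₁.2 ▸ Submodule.mem_top
    induction this using Submodule.span_induction with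
    | mem x hx =>
      obtain ⟨i, rfl⟩ := hx
      simpa [hG] using hα₀ (b i)
    | zero => simp
    | add a c _ _ ha hc => rw [map_add]; exact add_mem ha hc
    | smul r a _ ha => rw [map_smul]; exact Submodule.smul_mem _ r ha
  have hcong : ∀ k x, G^[k] α₀ x - α₀ x ∈ 𝔠 • (⊤ : Submodule W P₂) := by
    intro k
    induction k with
    | zero => simp
    | succ k ih =>
      intro x
      have h1 : G^[k + 1] α₀ x - α₀ x = G (G^[k] α₀ - α₀) x + (G α₀ - α₀) x := by
        rw [Function.iterate_succ_apply', hsub]; simp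
      rw [h1]
      exact add_mem (Submodule.smul_mono_left hmap (hval 𝔠 _ (fun y => ih y) x)) (hd x)
  have hfix : G (G^[M] α₀) = G^[M] α₀ := by
    have := hzero _ hd
    rw [hsubk, sub_eq_zero, ← Function.iterate_succ_apply, Function.iterate_succ_apply'] at this
    exact this
  refine ⟨G^[M] α₀, ⟨hcong M, fun x => ?_⟩, ?_⟩
  · conv_rhs => rw [← hfix]
    rw [hG']
  · rintro β ⟨hβ1, hβ2⟩
    have hGβ : G β = β := by
      refine b'.ext fun i => ?_
      rw [show b' i = F₁ (b i) from Module.Basis.mk_apply _ _ i, hG, hβ2]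
    have h := hzero (β - α₀) hβ1
    rw [hsubk, sub_eq_zero, Function.iterate_fixed hGβ] at h
    exact h

end lift

end Groth.Agent.DispLift.Basic
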